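import Mathlib.RingTheory.PowerSeries.Inverse
import Mathlib.RingTheory.PowerSeries.Order
import Mathlib.RingTheory.Ideal.Maps
import Mathlib.RingTheory.Ideal.Quotient.Operations
import Mathlib.LinearAlgebra.FiniteDimensional.Lemmas
import Mathlib.LinearAlgebra.Dimension.RankNullity
import Mathlib.LinearAlgebra.Dimension.Constructions

/-!
# Ideals in curve singularities inside products of power series rings
-/

universe u

noncomputable section

open PowerSeries

namespace Groth.Agent.HilbZetaLib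

variable {k : Type u} [Field k]

theorem natCast_le_order_iff {f : k⟦X⟧} {n : ℕ} : (n : ℕ∞) ≤ f.order ↔ X ^ n ∣ f :=
  ⟨fun h => X_pow_dvd_iff.mpr fun m hm => coeff_of_lt_order m (lt_of_lt_of_le (by exact_mod_cast hm) h),
    fun h => nat_le_order _ _ fun m hm => X_pow_dvd_iff.mp h m hm⟩

theorem exists_unit_mul {f : k⟦X⟧} {n : ℕ} (h : f.order = (n : ℕ∞)) :
    ∃ w : k⟦X⟧ˣ, f = X ^ n * (w : k⟦X⟧) := by
  obtain ⟨g, hg⟩ := natCast_le_order_iff.mp h.ge
  have hu : IsUnit g := by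
    rw [isUnit_iff_constantCoeff, isUnit_iff_ne_zero]
    intro h0
    have hc := (order_eq_nat.mp h).1
    rw [hg, coeff_X_pow_mul', if_pos le_rfl, Nat.sub_self, coeff_zero_eq_constantCoeff_apply] at hc
    exact hc h0
  exact ⟨hu.unit, hg⟩

theorem map_eq_span_iff {S : Type u} [CommRing S] (φ : S →+* k⟦X⟧) (I : Ideal S) (n : ℕ) :
    Ideal.map φ I = Ideal.span {X ^ n} ↔
      (∀ f ∈ I, (n : ℕ∞) ≤ (φ f).order) ∧ ∃ f ∈ I, (φ f).order = (n : ℕ∞) := by
  constructor
  · intro h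
    have h1 : ∀ f ∈ I, (n : ℕ∞) ≤ (φ f).order := fun f hf =>
      natCast_le_order_iff.mpr (Ideal.mem_span_singleton.mp (h ▸ Ideal.mem_map_of_mem φ hf))
    refine ⟨h1, ?_⟩
    by_contra hne
    push Not at hne
    have h2 : Ideal.map φ I ≤ Ideal.span {X ^ (n + 1)} := Ideal.map_le_iff_le_comap.mpr fun f hf =>
      Ideal.mem_span_singleton.mpr (natCast_le_order_iff.mp (by
        push_cast
        exact Order.add_one_le_of_lt (lt_of_le_of_ne (h1 f hf) (hne f hf).symm)))
    rw [h, Ideal.span_singleton_le_span_singleton, pow_succ] at h2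
    obtain ⟨g, hg⟩ := h2
    have := congrArg (coeff n) hg
    rw [coeff_X_pow, if_pos rfl, mul_assoc, coeff_X_pow_mul', if_pos le_rfl, Nat.sub_self,
      coeff_zero_eq_constantCoeff_apply] at this
    simp at this
  · rintro ⟨h1, f, hf, h2⟩
    refine le_antisymm (Ideal.map_le_iff_le_comap.mpr fun g hg =>
      Ideal.mem_span_singleton.mpr (natCast_le_order_iff.mp (h1 g hg))) ((Ideal.span_singleton_le_iff_mem _).mpr ?_)
    obtain ⟨w, hw⟩ := exists_unit_mul h2
    rw [show X ^ n = φ f * ((w⁻¹ : k⟦X⟧ˣ) : k⟦X⟧) by rw [hw, mul_assoc, Units.mul_inv, mul_one]]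
    exact Ideal.mul_mem_right _ _ (Ideal.mem_map_of_mem φ hf)

/-- Quotients along an injective linear map. -/
theorem finrank_quotient_map {V W : Type u} [AddCommGroup V] [Module k V] [AddCommGroup W] [Module k W]
    (ψ : V →ₗ[k] W) (hψ : Function.Injective ψ) (A : Submodule k V)
    (hW : Module.Finite k (W ⧸ LinearMap.range ψ)) :
    (Module.Finite k (V ⧸ A) ↔ Module.Finite k (W ⧸ A.map ψ)) ∧
      (Module.Finite k (V ⧸ A) → Module.finrank k (W ⧸ A.map ψ) =
        Module.finrank k (V ⧸ A) + Module.finrank k (W ⧸ LinearMap.range ψ)) := by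
  let θ := Submodule.mapQ A (A.map ψ) ψ (Submodule.le_comap_map _ _)
  have hθ : Function.Injective θ := by
    intro x y h
    induction x using Submodule.Quotient.induction_on with | _ x => ?_
    induction y using Submodule.Quotient.induction_on with | _ y => ?_
    rw [Submodule.mapQ_apply, Submodule.mapQ_apply, Submodule.Quotient.eq, ← map_sub] at h
    obtain ⟨z, hz, hzx⟩ := h
    exact (Submodule.Quotient.eq A).mpr (hψ hzx ▸ hz)
  have hrange : LinearMap.range θ = (LinearMap.range ψ).map (A.map ψ).mkQ := by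
    rw [Submodule.range_mapQ]
  let e := Submodule.quotientQuotientEquivQuotient (A.map ψ) (LinearMap.range ψ)
    (LinearMap.map_le_range)
  have eθ := (Submodule.quotEquivOfEq _ _ hrange).trans e
  haveI : Module.Finite k ((W ⧸ A.map ψ) ⧸ LinearMap.range θ) := Module.Finite.equiv eθ.symm
  constructor
  · constructor
    · intro h
      haveI := h
      haveI : Module.Finite k (LinearMap.range θ) := Module.Finite.range θ
      exact Module.Finite.of_submodule_quotient (LinearMap.range θ)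
    · intro h
      haveI := h
      exact Module.Finite.of_injective θ hθ
  · intro h
    haveI := h
    haveI : Module.Finite k (LinearMap.range θ) := Module.Finite.range θ
    haveI : Module.Finite k (W ⧸ A.map ψ) := Module.Finite.of_submodule_quotient (LinearMap.range θ)
    rw [← Submodule.finrank_quotient_add_finrank (LinearMap.range θ), LinearEquiv.finrank_eq eθ,
      LinearMap.finrank_range_of_inj hθ, add_comm]

variable {s : ℕ} (R : Subalgebra k (Fin s → k⟦X⟧))

/-- The image of an ideal in the product. -/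
def image (I : Ideal R) : Submodule k (Fin s → k⟦X⟧) := (I.restrictScalars k).map R.val.toLinearMap

theorem mem_image {I : Ideal R} {g : Fin s → k⟦X⟧} : g ∈ image R I ↔ ∃ h : g ∈ R, (⟨g, h⟩ : R) ∈ I :=
  ⟨fun ⟨f, hf, hfg⟩ => hfg ▸ ⟨f.2, hf⟩, fun ⟨h, hg⟩ => ⟨⟨g, h⟩, hg, rfl⟩⟩

theorem coe_image (I : Ideal R) : (image R I : Set (Fin s → k⟦X⟧)) = Subtype.val '' (I : Set R) := rfl

theorem quotient_range (hfin : Module.Finite k ((Fin s → k⟦X⟧) ⧸ Subalgebra.toSubmodule R)) :
    Module.Finite k ((Fin s → k⟦X⟧) ⧸ LinearMap.range R.val.toLinearMap) ∧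
      Module.finrank k ((Fin s → k⟦X⟧) ⧸ LinearMap.range R.val.toLinearMap) =
        Module.finrank k ((Fin s → k⟦X⟧) ⧸ Subalgebra.toSubmodule R) := by
  have h : LinearMap.range R.val.toLinearMap = Subalgebra.toSubmodule R := by
    ext x; simp
  haveI := hfin
  exact ⟨Module.Finite.equiv (Submodule.quotEquivOfEq _ _ h).symm, (Submodule.quotEquivOfEq _ _ h).finrank_eq⟩

theorem finrank_image (hfin : Module.Finite k ((Fin s → k⟦X⟧) ⧸ Subalgebra.toSubmodule R)) (I : Ideal R) :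
    (Module.Finite k (R ⧸ I) ↔ Module.Finite k ((Fin s → k⟦X⟧) ⧸ image R I)) ∧
      (Module.Finite k (R ⧸ I) → Module.finrank k ((Fin s → k⟦X⟧) ⧸ image R I) =
        Module.finrank k (R ⧸ I) + Module.finrank k ((Fin s → k⟦X⟧) ⧸ Subalgebra.toSubmodule R)) := by
  obtain ⟨h1, h2⟩ := quotient_range R hfin
  obtain ⟨h3, h4⟩ := finrank_quotient_map R.val.toLinearMap Subtype.val_injective (I.restrictScalars k) h1
  let e := Submodule.Quotient.restrictScalarsEquiv k I
  have e1 : Module.Finite k (R ⧸ I) ↔ Module.Finite k (R ⧸ I.restrictScalars k) :=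
    ⟨fun _ => Module.Finite.equiv e.symm, fun _ => Module.Finite.equiv e⟩
  refine ⟨e1.trans h3, fun h => ?_⟩
  rw [← h2]
  exact (h4 (e1.mp h)).trans (congrArg (· + _) e.finrank_eq)

variable {R}
variable {c : Fin s → ℕ}
  (hc : ∀ f : Fin s → k⟦X⟧, (∀ g : Fin s → k⟦X⟧, g * f ∈ R) ↔ ∀ i, ((c i : ℕ) : ℕ∞) ≤ (f i).order)

include hc

theorem mem_of_le_order {f : Fin s → k⟦X⟧} (hf : ∀ i, ((c i : ℕ) : ℕ∞) ≤ (f i).order) : f ∈ R := by
  simpa using (hc f).mpr hf 1

theorem single_mem {i : Fin s} {g : k⟦X⟧} (hg : ((c i : ℕ) : ℕ∞) ≤ g.order) : Pi.single i g ∈ R := by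
  refine mem_of_le_order hc fun j => ?_
  rcases eq_or_ne j i with rfl | h
  · simpa using hg
  · simp [h]

theorem mem_ideal_of_le_order (J : Ideal R) (l : Fin s → ℕ)
    (hl : ∀ i : Fin s, ∃ f ∈ J, ((f : Fin s → k⟦X⟧) i).order = ((l i : ℕ) : ℕ∞))
    (g : Fin s → k⟦X⟧) (hg : ∀ i, ((l i + c i : ℕ) : ℕ∞) ≤ (g i).order) :
    g ∈ image R J := by
  rw [← Finset.univ_sum_single g]
  refine Submodule.sum_mem _ fun i _ => ?_
  obtain ⟨f, hf, hfo⟩ := hl i
  obtain ⟨w, hw⟩ := exists_unit_mul hfo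
  obtain ⟨q, hq⟩ := natCast_le_order_iff.mp (hg i)
  have hu : Pi.single i (X ^ c i * q * ((w⁻¹ : k⟦X⟧ˣ) : k⟦X⟧)) ∈ R :=
    single_mem hc (natCast_le_order_iff.mpr ⟨q * ((w⁻¹ : k⟦X⟧ˣ) : k⟦X⟧), by ring⟩)
  refine ⟨⟨_, hu⟩ * f, J.mul_mem_left _ hf, ?_⟩
  show Pi.single i _ * (f : Fin s → k⟦X⟧) = Pi.single i (g i)
  funext j
  rcases eq_or_ne j i with rfl | h
  · simp only [Pi.mul_apply, Pi.single_eq_same, hw, hq]
    rw [show X ^ c j * q * ((w⁻¹ : k⟦X⟧ˣ) : k⟦X⟧) * (X ^ l j * (w : k⟦X⟧)) =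
      X ^ l j * X ^ c j * q * (((w⁻¹ : k⟦X⟧ˣ) : k⟦X⟧) * (w : k⟦X⟧)) by ring, Units.inv_mul, mul_one, ← pow_add]
  · simp [h]

end Groth.Agent.HilbZetaLib
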