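import Mathlib.RingTheory.Spectrum.Prime.Topology
import Mathlib.RingTheory.LocalRing.ResidueField.Ideal
import Mathlib.LinearAlgebra.Matrix.NonsingularInverse
import Mathlib.LinearAlgebra.Dimension.Constructions
import Mathlib.LinearAlgebra.Matrix.ToLin
import Mathlib.LinearAlgebra.Matrix.ToLinearEquiv
import Mathlib.RingTheory.Spectrum.Prime.Noetherian
import Mathlib.Topology.Constructible
import Mathlib.Topology.NoetherianSpace
import Mathlib.RingTheory.Noetherian.Basic

/-!
# Rank strata of finitely many vectors
-/

universe u

noncomputable section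

namespace Groth.Agent.HilbZetaLib

variable {A : Type u} [CommRing A] {ι : Type*} [Fintype ι] [DecidableEq ι]

/-- Reduction of a vector at a prime. -/
def red (p : PrimeSpectrum A) (v : ι → A) : ι → p.asIdeal.ResidueField :=
  fun i => algebraMap A p.asIdeal.ResidueField (v i)

theorem exists_lift_smul (p : PrimeSpectrum A) (x : p.asIdeal.ResidueField) :
    ∃ a b : A, b ∉ p.asIdeal ∧ algebraMap A p.asIdeal.ResidueField b * x = algebraMap A _ a := by
  obtain ⟨y, rfl⟩ := IsLocalRing.residue_surjective x
  obtain ⟨⟨a, b⟩, hab⟩ := IsLocalization.surj p.asIdeal.primeCompl y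
  refine ⟨a, b, b.2, ?_⟩
  rw [IsScalarTower.algebraMap_apply A (Localization.AtPrime p.asIdeal) p.asIdeal.ResidueField,
    IsScalarTower.algebraMap_apply A (Localization.AtPrime p.asIdeal) p.asIdeal.ResidueField a,
    IsLocalRing.ResidueField.algebraMap_eq, ← map_mul, mul_comm, hab]

theorem isOpen_rank_ge {m : Type*} [Fintype m] (w : m → ι → A) (r : ℕ) :
    IsOpen {p : PrimeSpectrum A |
      r ≤ Module.finrank p.asIdeal.ResidueField (Submodule.span p.asIdeal.ResidueField (Set.range fun i => red p (w i)))} := by
  classical
  rw [isOpen_iff_forall_mem_open]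
  intro p hp
  set κ := p.asIdeal.ResidueField
  -- r independent ones
  obtain ⟨σ, hσ⟩ : ∃ σ : Fin r → m, LinearIndependent κ fun j => red p (w (σ j)) := by
    obtain ⟨b, hb, hspan, hli⟩ := exists_linearIndependent κ (Set.range fun i => red p (w i))
    haveI : Finite b := ((Set.finite_range _).subset hb).to_subtype
    letI := Fintype.ofFinite b
    have hcard : r ≤ Fintype.card b := by
      have := hp
      simp only [Set.mem_ofPred_eq] at this
      rw [← hspan, show b = Set.range (Subtype.val : b → _) from Subtype.range_val.symm, finrank_span_eq_card hli] at this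
      exact this
    choose f hf using fun x : b => hb x.2
    let e : Fin r ↪ b := (Fin.castLEEmb hcard).trans (Fintype.equivFin b).symm.toEmbedding
    refine ⟨fun j => f (e j), ?_⟩
    rw [show (fun j => red p (w (f (e j)))) = Subtype.val ∘ e from funext fun j => hf (e j)]
    exact hli.comp e e.injective
  set V : Matrix ι (Fin r) κ := Matrix.of fun i j => red p (w (σ j)) i
  obtain ⟨L, hL⟩ := (Fintype.linearCombination κ fun j => red p (w (σ j))).exists_leftInverse_of_injective
    (LinearMap.ker_eq_bot.mpr (linearIndependent_iff_injective_fintypeLinearCombination.mp hσ))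
  choose a b hb hab using fun (x : Fin r × ι) => exists_lift_smul p ((LinearMap.toMatrix' L) x.1 x.2)
  set B := ∏ x, b x
  have hB : B ∉ p.asIdeal := fun h => by
    obtain ⟨x, -, hx⟩ := (p.isPrime.prod_mem_iff).mp h
    exact hb x hx
  set L' : Matrix (Fin r) ι A := Matrix.of fun j i => (∏ x ∈ Finset.univ.erase (j, i), b x) * a (j, i)
  have hL' : L'.map (algebraMap A κ) = algebraMap A κ B • LinearMap.toMatrix' L := by
    ext j i
    simp only [L', Matrix.map_apply, Matrix.of_apply, Matrix.smul_apply, smul_eq_mul]
    rw [map_mul, ← hab (j, i), ← mul_assoc,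
      ← map_mul, Finset.prod_erase_mul _ _ (Finset.mem_univ _)]
  set W : Matrix ι (Fin r) A := Matrix.of fun i j => w (σ j) i
  refine ⟨PrimeSpectrum.basicOpen (L' * W).det, fun q hq => ?_, (PrimeSpectrum.basicOpen _).2, ?_⟩
  · set κ' := q.asIdeal.ResidueField
    have hne : algebraMap A κ' (L' * W).det ≠ 0 := by
      rw [Ne, Ideal.algebraMap_residueField_eq_zero]; exact hq
    rw [RingHom.map_det, RingHom.mapMatrix_apply, Matrix.map_mul] at hne
    have hli : LinearIndependent κ' fun j => red q (w (σ j)) := by
      rw [Fintype.linearIndependent_iff]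
      intro g hg j
      have h0 : (W.map (algebraMap A κ')).mulVec g = 0 := by
        ext i
        have := congrFun hg i
        simpa [Matrix.mulVec, dotProduct, red, W, mul_comm] using this
      have h1 := Matrix.eq_zero_of_mulVec_eq_zero hne (v := g) (by rw [← Matrix.mulVec_mulVec, h0, Matrix.mulVec_zero])
      exact congrFun h1 j
    have := finrank_span_eq_card hli
    rw [Fintype.card_fin] at this
    exact this.ge.trans (Submodule.finrank_mono (Submodule.span_mono (Set.range_comp_subset_range σ fun i => red q (w i))))
  · show (L' * W).det ∉ p.asIdeal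
    rw [← Ideal.algebraMap_residueField_eq_zero, RingHom.map_det, RingHom.mapMatrix_apply, Matrix.map_mul, hL',
      Matrix.smul_mul]
    have hLV : LinearMap.toMatrix' L * W.map (algebraMap A κ) = 1 := by
      rw [show W.map (algebraMap A κ) = LinearMap.toMatrix' (Fintype.linearCombination κ fun j => red p (w (σ j))) by
        ext i j; simp [W, red, LinearMap.toMatrix'_apply, Fintype.linearCombination_apply, Finset.sum_apply, Pi.single_apply, ite_apply, κ],
        ← LinearMap.toMatrix'_comp, hL, LinearMap.toMatrix'_id]
    rw [hLV, Matrix.det_smul, Matrix.det_one, mul_one]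
    exact pow_ne_zero _ (by rwa [Ne, Ideal.algebraMap_residueField_eq_zero])

theorem isConstructible_rank_eq [IsNoetherianRing A] {m : Type*} [Fintype m] (w : m → ι → A) (n : ℕ) :
    Topology.IsConstructible {p : PrimeSpectrum A |
      Module.finrank p.asIdeal.ResidueField (Submodule.span p.asIdeal.ResidueField (Set.range fun i => red p (w i))) = n} := by
  have h : ∀ r, Topology.IsConstructible {p : PrimeSpectrum A |
      r ≤ Module.finrank p.asIdeal.ResidueField (Submodule.span p.asIdeal.ResidueField (Set.range fun i => red p (w i)))} :=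
    fun r => BooleanSubalgebra.subset_closure ⟨isOpen_rank_ge w r, fun U _ _ => TopologicalSpace.NoetherianSpace.isCompact _⟩
  convert (h n).sdiff (h (n + 1)) using 1
  ext p
  simp only [Set.mem_ofPred_eq, Set.mem_sdiff]
  omega

end Groth.Agent.HilbZetaLib
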