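import Groth.Agent.HilbZetaLib.Branch

/-!
# Colengths and branch lengths
-/

universe u

noncomputable section

open PowerSeries

namespace Groth.Agent.HilbZetaLib

variable {k : Type u} [Field k] {s : ℕ}

/-- The low coefficients. -/
def lowCoeff (a : Fin s → ℕ) : (Fin s → k⟦X⟧) →ₗ[k] ((i : Fin s) → Fin (a i) → k) :=
  LinearMap.pi fun i => LinearMap.pi fun j : Fin (a i) => (coeff (j : ℕ)).comp (LinearMap.proj i)

/-- The tuples of orders at least `a`. -/
def orderGE (a : Fin s → ℕ) : Submodule k (Fin s → k⟦X⟧) := LinearMap.ker (lowCoeff a)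

theorem mem_orderGE {a : Fin s → ℕ} {f : Fin s → k⟦X⟧} : f ∈ orderGE a ↔ ∀ i, (a i : ℕ∞) ≤ (f i).order := by
  simp only [orderGE, LinearMap.mem_ker, funext_iff, lowCoeff, LinearMap.pi_apply, LinearMap.comp_apply,
    LinearMap.proj_apply, Pi.zero_apply]
  refine forall_congr' fun i => ?_
  rw [natCast_le_order_iff, X_pow_dvd_iff]
  exact ⟨fun h m hm => h ⟨m, hm⟩, fun h j => h j j.2⟩

theorem finrank_orderGE (a : Fin s → ℕ) :
    Module.Finite k ((Fin s → k⟦X⟧) ⧸ orderGE (k := k) a) ∧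
      Module.finrank k ((Fin s → k⟦X⟧) ⧸ orderGE (k := k) a) = ∑ i, a i := by
  have h : Function.Surjective (lowCoeff (k := k) a) := fun v =>
    ⟨fun i => PowerSeries.mk fun n => if h : n < a i then v i ⟨n, h⟩ else 0,
      funext fun i => funext fun j => by simp [lowCoeff, j.2]⟩
  let e := LinearMap.quotKerEquivOfSurjective _ h
  refine ⟨Module.Finite.equiv e.symm, ?_⟩
  rw [orderGE, e.finrank_eq, Module.finrank_pi_fintype]
  simp

theorem finrank_quotient_mono {V : Type u} [AddCommGroup V] [Module k V] {A B : Submodule k V} (hle : A ≤ B)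
    (h : Module.Finite k (V ⧸ A)) :
    Module.finrank k (V ⧸ B) ≤ Module.finrank k (V ⧸ A) ∧
      (A ≠ B → Module.finrank k (V ⧸ B) < Module.finrank k (V ⧸ A)) := by
  let e := Submodule.quotientQuotientEquivQuotient A B hle
  haveI := h
  have h1 := Submodule.finrank_quotient_add_finrank (B.map A.mkQ)
  rw [e.finrank_eq] at h1
  refine ⟨by omega, fun hne => ?_⟩
  have h2 : Module.finrank k (B.map A.mkQ) ≠ 0 := by
    rw [Ne, Submodule.finrank_eq_zero]
    intro h0
    refine hne (le_antisymm hle fun x hx => ?_)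
    have : A.mkQ x ∈ B.map A.mkQ := Submodule.mem_map_of_mem hx
    rw [h0, Submodule.mem_bot] at this
    exact (Submodule.Quotient.mk_eq_zero A).mp this
  omega

variable {R : Subalgebra k (Fin s → k⟦X⟧)}

/-- `I` has branch-length vector `a`. -/
abbrev HasBranch (I : Ideal R) (a : Fin s → ℕ) : Prop :=
  ∀ i : Fin s, Ideal.map ((Pi.evalAlgHom k (fun _ : Fin s => k⟦X⟧) i).comp R.val) I = Ideal.span {X ^ (a i)}

theorem hasBranch_iff {I : Ideal R} {a : Fin s → ℕ} :
    HasBranch I a ↔ ∀ i, (∀ f ∈ I, (a i : ℕ∞) ≤ ((f : Fin s → k⟦X⟧) i).order) ∧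
      ∃ f ∈ I, ((f : Fin s → k⟦X⟧) i).order = (a i : ℕ∞) :=
  forall_congr' fun i => map_eq_span_iff ((Pi.evalAlgHom k (fun _ : Fin s => k⟦X⟧) i).comp R.val).toRingHom I (a i)

variable {c : Fin s → ℕ}
  (hc : ∀ f : Fin s → k⟦X⟧, (∀ g : Fin s → k⟦X⟧, g * f ∈ R) ↔ ∀ i, ((c i : ℕ) : ℕ∞) ≤ (f i).order)

theorem image_le_orderGE {I : Ideal R} {a : Fin s → ℕ} (ha : HasBranch I a) : image R I ≤ orderGE a := by
  intro g hg
  obtain ⟨h, hg⟩ := (mem_image R).mp hg
  exact mem_orderGE.mpr fun i => (hasBranch_iff.mp ha i).1 _ hg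

include hc

theorem orderGE_le_image {I : Ideal R} {a : Fin s → ℕ} (ha : HasBranch I a) :
    orderGE (fun i => a i + c i) ≤ image R I :=
  fun g hg => mem_ideal_of_le_order hc I a (fun i => (hasBranch_iff.mp ha i).2) g (mem_orderGE.mp hg)

theorem colength_bounds (hfin : Module.Finite k ((Fin s → k⟦X⟧) ⧸ Subalgebra.toSubmodule R))
    {I : Ideal R} (hI : Module.Finite k (R ⧸ I)) {a : Fin s → ℕ} (ha : HasBranch I a) :
    (∑ i, a i) ≤ Module.finrank k (R ⧸ I) + Module.finrank k ((Fin s → k⟦X⟧) ⧸ Subalgebra.toSubmodule R) ∧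
    Module.finrank k (R ⧸ I) + Module.finrank k ((Fin s → k⟦X⟧) ⧸ Subalgebra.toSubmodule R) ≤
      (∑ i, a i) + ∑ i, c i ∧
    (R ≠ ⊤ → Module.finrank k (R ⧸ I) + Module.finrank k ((Fin s → k⟦X⟧) ⧸ Subalgebra.toSubmodule R) <
      (∑ i, a i) + ∑ i, c i) := by
  rw [← (finrank_image R hfin I).2 hI]
  have hA := (finrank_image R hfin I).1.mp hI
  obtain ⟨hB, hB'⟩ := finrank_orderGE (k := k) a
  obtain ⟨hC, hC'⟩ := finrank_orderGE (k := k) (fun i => a i + c i)
  rw [Finset.sum_add_distrib] at hC'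
  obtain ⟨h1, h2⟩ := finrank_quotient_mono (orderGE_le_image hc ha) hC
  refine ⟨hB' ▸ (finrank_quotient_mono (image_le_orderGE ha) hA).1, hC' ▸ h1, fun hR => hC' ▸ h2 fun heq => hR ?_⟩
  rw [eq_top_iff]
  intro g _
  have hc0 : ∀ i, c i = 0 := fun i => by
    obtain ⟨f, hf, hfo⟩ := (hasBranch_iff.mp ha i).2
    have : (f : Fin s → k⟦X⟧) ∈ orderGE (fun i => a i + c i) := heq ▸ (mem_image R).mpr ⟨f.2, hf⟩
    have h3 := mem_orderGE.mp this i
    rw [hfo, Nat.cast_le] at h3
    omega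
  exact mem_of_le_order hc fun i => by simp [hc0 i]

omit hc

/-- `x` at the branch `j`, `1` elsewhere. -/
def xi (j : Fin s) : Fin s → k⟦X⟧ := Pi.mulSingle j X

theorem xi_mul_apply (j : Fin s) (f : Fin s → k⟦X⟧) (i : Fin s) :
    (xi j * f : Fin s → k⟦X⟧) i = if i = j then X * f i else f i := by
  rcases eq_or_ne i j with rfl | h
  · simp [xi]
  · simp [xi, h]

theorem order_xi_mul (j : Fin s) (f : Fin s → k⟦X⟧) (i : Fin s) :
    ((xi j * f : Fin s → k⟦X⟧) i).order = (f i).order + (if i = j then 1 else 0) := by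
  rw [xi_mul_apply]
  split_ifs with h
  · rw [order_mul, order_X, add_comm]
  · rw [add_zero]

theorem xi_mul_injective (j : Fin s) : Function.Injective (xi (k := k) j * ·) := by
  intro f g h
  funext i
  have h' := congrFun h i
  simp only [xi_mul_apply] at h'
  split_ifs at h'
  · exact mul_left_cancel₀ X_ne_zero h'
  · exact h'

theorem finrank_xi_map (j : Fin s) (A : Submodule k (Fin s → k⟦X⟧)) :
    (Module.Finite k ((Fin s → k⟦X⟧) ⧸ A) ↔
      Module.Finite k ((Fin s → k⟦X⟧) ⧸ A.map (LinearMap.mulLeft k (xi j)))) ∧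
    (Module.Finite k ((Fin s → k⟦X⟧) ⧸ A) →
      Module.finrank k ((Fin s → k⟦X⟧) ⧸ A.map (LinearMap.mulLeft k (xi j))) =
        Module.finrank k ((Fin s → k⟦X⟧) ⧸ A) + 1) := by
  have hr : LinearMap.range (LinearMap.mulLeft k (xi (k := k) j)) = orderGE (Pi.single j 1) := by
    refine le_antisymm ?_ fun f hf => ?_
    · rintro _ ⟨f, rfl⟩
      refine mem_orderGE.mpr fun i => ?_
      rw [LinearMap.mulLeft_apply, order_xi_mul]
      rcases eq_or_ne i j with rfl | h <;> simp [*]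
    · obtain ⟨q, hq⟩ := natCast_le_order_iff.mp (mem_orderGE.mp hf j)
      refine ⟨Function.update f j q, funext fun i => ?_⟩
      rw [LinearMap.mulLeft_apply, xi_mul_apply]
      rcases eq_or_ne i j with rfl | h
      · rw [if_pos rfl, hq]; simp
      · simp [h]
  obtain ⟨h1, h2⟩ := finrank_orderGE (k := k) (Pi.single j 1 : Fin s → ℕ)
  rw [Finset.univ.sum_pi_single' j 1, if_pos (Finset.mem_univ j)] at h2
  have hinj : Function.Injective (LinearMap.mulLeft k (xi (k := k) j)) := fun f g h =>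
    xi_mul_injective (k := k) j h
  haveI := h1
  have h5 : Module.Finite k ((Fin s → k⟦X⟧) ⧸ LinearMap.range (LinearMap.mulLeft k (xi (k := k) j))) :=
    Module.Finite.equiv (Submodule.quotEquivOfEq _ _ hr).symm
  obtain ⟨h3, h4⟩ := finrank_quotient_map (V := Fin s → k⟦X⟧) (W := Fin s → k⟦X⟧) (LinearMap.mulLeft k (xi (k := k) j)) hinj A h5
  refine ⟨h3, fun h => ?_⟩
  rw [h4 h, (Submodule.quotEquivOfEq _ _ hr).finrank_eq, h2]

include hc

theorem xi_mem {j : Fin s} {f : Fin s → k⟦X⟧} (hf : f ∈ R) (hj : (c j : ℕ∞) ≤ (f j).order) : xi j * f ∈ R := by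
  have h : xi j * f = f + Pi.single j ((X - 1) * f j) := funext fun i => by
    rw [xi_mul_apply]
    rcases eq_or_ne i j with rfl | h
    · rw [if_pos rfl, Pi.add_apply, Pi.single_eq_same]; ring
    · simp [h]
  rw [h]
  exact add_mem hf (single_mem hc (natCast_le_order_iff.mpr ((natCast_le_order_iff.mp hj).mul_left _)))

theorem strata_bijection (hfin : Module.Finite k ((Fin s → k⟦X⟧) ⧸ Subalgebra.toSubmodule R))
    (j : Fin s) (d : ℕ) (a : Fin s → ℕ) (hj : c j ≤ a j) :
    (∀ I : Ideal R, Module.Finite k (R ⧸ I) → Module.finrank k (R ⧸ I) = d → HasBranch I a →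
      ∃ J : Ideal R, (Module.Finite k (R ⧸ J) ∧ Module.finrank k (R ⧸ J) = d + 1 ∧
        HasBranch J (Function.update a j (a j + 1))) ∧
        Subtype.val '' (J : Set R) = (fun f => xi j * f) '' (Subtype.val '' (I : Set R))) ∧
    (∀ J : Ideal R, Module.Finite k (R ⧸ J) → Module.finrank k (R ⧸ J) = d + 1 →
      HasBranch J (Function.update a j (a j + 1)) →
      ∃ I : Ideal R, (Module.Finite k (R ⧸ I) ∧ Module.finrank k (R ⧸ I) = d ∧ HasBranch I a) ∧
        Subtype.val '' (J : Set R) = (fun f => xi j * f) '' (Subtype.val '' (I : Set R))) := by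
  have hupd : ∀ i, ((Function.update a j (a j + 1) i : ℕ) : ℕ∞) = (a i : ℕ∞) + (if i = j then 1 else 0) := by
    intro i
    rcases eq_or_ne i j with rfl | h <;> simp [*]
  have hfinI : ∀ I J : Ideal R, Subtype.val '' (J : Set R) = (fun f => xi j * f) '' (Subtype.val '' (I : Set R)) →
      (Module.Finite k (R ⧸ I) ↔ Module.Finite k (R ⧸ J)) ∧
      (Module.Finite k (R ⧸ I) → Module.finrank k (R ⧸ J) = Module.finrank k (R ⧸ I) + 1) := by
    intro I J h
    have hJ : image R J = (image R I).map (LinearMap.mulLeft k (xi j)) := SetLike.coe_injective <| by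
      rw [Submodule.map_coe, coe_image, coe_image]; exact h
    obtain ⟨p1, p2⟩ := finrank_image R hfin I
    obtain ⟨q1, q2⟩ := finrank_image R hfin J
    obtain ⟨x1, x2⟩ := finrank_xi_map (k := k) j (image R I)
    rw [← hJ] at x1 x2
    refine ⟨p1.trans (x1.trans q1.symm), fun hI => ?_⟩
    have hJf := q1.mpr (x1.mp (p1.mp hI))
    have := x2 (p1.mp hI)
    rw [p2 hI, q2 hJf] at this
    omega
  have hbr : ∀ I J : Ideal R, Subtype.val '' (J : Set R) = (fun f => xi j * f) '' (Subtype.val '' (I : Set R)) →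
      (HasBranch I a ↔ HasBranch J (Function.update a j (a j + 1))) := by
    intro I J h
    rw [hasBranch_iff, hasBranch_iff]
    refine forall_congr' fun i => ?_
    have key : ∀ P : ℕ∞ → Prop, (∀ f ∈ J, P ((f : Fin s → k⟦X⟧) i).order) ↔
        ∀ f ∈ I, P (((f : Fin s → k⟦X⟧) i).order + (if i = j then 1 else 0)) := by
      intro P
      constructor
      · intro hP f hf
        obtain ⟨g, hg, hgf⟩ : xi j * (f : Fin s → k⟦X⟧) ∈ Subtype.val '' (J : Set R) := h ▸ ⟨f, ⟨f, hf, rfl⟩, rfl⟩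
        have := hP g hg
        rwa [hgf, order_xi_mul] at this
      · intro hP g hg
        obtain ⟨_, ⟨f, hf, rfl⟩, hgf⟩ : (g : Fin s → k⟦X⟧) ∈ (fun f => xi j * f) '' (Subtype.val '' (I : Set R)) :=
          h ▸ ⟨g, hg, rfl⟩
        rw [← hgf, order_xi_mul]
        exact hP f hf
    have e2 := not_iff_not.mpr (key fun o => o ≠ ((Function.update a j (a j + 1) i : ℕ) : ℕ∞))
    push Not at e2
    refine and_congr ?_ ?_
    · rw [key fun o => ((Function.update a j (a j + 1) i : ℕ) : ℕ∞) ≤ o, hupd]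
      exact forall₂_congr fun f _ => (WithTop.add_le_add_iff_right (by split_ifs <;> first | exact ENat.one_ne_top | exact ENat.zero_ne_top)).symm
    · rw [e2, hupd]
      exact exists_congr fun f => and_congr_right fun _ => (WithTop.add_right_inj (by split_ifs <;> first | exact ENat.one_ne_top | exact ENat.zero_ne_top)).symm
  refine ⟨fun I hI hd ha => ?_, fun J hJ hd ha => ?_⟩
  · have hmem : ∀ f : R, f ∈ I → xi j * (f : Fin s → k⟦X⟧) ∈ R := fun f hf =>
      xi_mem hc f.2 (le_trans (by exact_mod_cast hj) ((hasBranch_iff.mp ha j).1 f hf))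
    let J : Ideal R :=
      { carrier := {g | ∃ f ∈ I, (g : Fin s → k⟦X⟧) = xi j * (f : Fin s → k⟦X⟧)}
        add_mem' := fun ⟨f, hf, e⟩ ⟨f', hf', e'⟩ => ⟨f + f', add_mem hf hf', by push_cast; rw [e, e', mul_add]⟩
        zero_mem' := ⟨0, zero_mem _, by simp⟩
        smul_mem' := fun r g ⟨f, hf, e⟩ => ⟨r * f, I.mul_mem_left r hf, by
          show (r : Fin s → k⟦X⟧) * (g : Fin s → k⟦X⟧) = xi j * ((r : Fin s → k⟦X⟧) * (f : Fin s → k⟦X⟧))
          rw [e]; ring⟩ }
    have himg : Subtype.val '' (J : Set R) = (fun f => xi j * f) '' (Subtype.val '' (I : Set R)) := by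
      ext g
      constructor
      · rintro ⟨g, ⟨f, hf, e⟩, rfl⟩; exact ⟨f, ⟨f, hf, rfl⟩, e.symm⟩
      · rintro ⟨_, ⟨f, hf, rfl⟩, rfl⟩; exact ⟨⟨_, hmem f hf⟩, ⟨f, hf, rfl⟩, rfl⟩
    obtain ⟨h1, h2⟩ := hfinI I J himg
    exact ⟨J, ⟨h1.mp hI, by rw [h2 hI, hd], (hbr I J himg).mp ha⟩, himg⟩
  · let I : Ideal R :=
      { carrier := {f | ∃ g ∈ J, (g : Fin s → k⟦X⟧) = xi j * (f : Fin s → k⟦X⟧)}
        add_mem' := fun ⟨g, hg, e⟩ ⟨g', hg', e'⟩ => ⟨g + g', add_mem hg hg', by push_cast; rw [e, e', mul_add]⟩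
        zero_mem' := ⟨0, zero_mem _, by simp⟩
        smul_mem' := fun r f ⟨g, hg, e⟩ => ⟨r * g, J.mul_mem_left r hg, by
          show (r : Fin s → k⟦X⟧) * (g : Fin s → k⟦X⟧) = xi j * ((r : Fin s → k⟦X⟧) * (f : Fin s → k⟦X⟧))
          rw [e]; ring⟩ }
    have himg : Subtype.val '' (J : Set R) = (fun f => xi j * f) '' (Subtype.val '' (I : Set R)) := by
      ext g
      constructor
      · rintro ⟨g, hg, rfl⟩
        have ho := (hasBranch_iff.mp ha j).1 g hg
        rw [Function.update_self] at ho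
        obtain ⟨q, hq⟩ := natCast_le_order_iff.mp ho
        have hq' : (g : Fin s → k⟦X⟧) j = X * (X ^ a j * q) := by rw [hq, pow_succ]; ring
        set h := Function.update (g : Fin s → k⟦X⟧) j (X ^ a j * q) with hh
        have hxi : xi j * h = (g : Fin s → k⟦X⟧) := funext fun i => by
          rw [xi_mul_apply]
          rcases eq_or_ne i j with rfl | hne
          · simp [hh, hq']
          · simp [hh, hne]
        have hR : h ∈ R := by
          have : h = (g : Fin s → k⟦X⟧) + Pi.single j ((1 - X) * (X ^ a j * q)) := funext fun i => by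
            rcases eq_or_ne i j with rfl | hne
            · simp only [hh, Function.update_self, Pi.add_apply, Pi.single_eq_same, hq']; ring
            · simp [hh, hne]
          rw [this]
          refine add_mem g.2 (single_mem hc (natCast_le_order_iff.mpr ?_))
          exact ((pow_dvd_pow X hj).mul_right q).mul_left _
        exact ⟨h, ⟨⟨h, hR⟩, ⟨g, hg, hxi.symm⟩, rfl⟩, hxi⟩
      · rintro ⟨_, ⟨f, ⟨g, hg, e⟩, rfl⟩, rfl⟩; exact ⟨g, hg, e⟩
    obtain ⟨h1, h2⟩ := hfinI I J himg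
    have hI := h1.mpr hJ
    have := h2 hI
    exact ⟨I, ⟨hI, by omega, (hbr I J himg).mpr ha⟩, himg⟩

end Groth.Agent.HilbZetaLib
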